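import Groth.Agent.H53.Epi
import Groth.Agent.H53.Basic
import Groth.Prelude.Def_AlgSp3
import Mathlib.CategoryTheory.Sites.RegularEpi

/-!
# The Néron mapping property extends from smooth schemes to smooth algebraic spaces
-/

set_option autoImplicit false
universe u
open CategoryTheory CategoryTheory.Limits AlgebraicGeometry Opposite

namespace Groth.Agent.H64.Neron

open AlgSp

variable {S : Scheme.{u}} (U : S.Opens)

/-- `Y ×_S U` as a scheme over `S` -/
noncomputable abbrev res (Y : Over S) : Over S := (Over.pullback U.ι ⋙ Over.map U.ι).obj Y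

/-- the projection `Y ×_S U ⟶ Y` -/
noncomputable abbrev cY (Y : Over S) : res U Y ⟶ Y := (Over.mapPullbackAdj U.ι).counit.app Y

/-- the projection `Y ×_S U ⟶ U` -/
noncomputable def uY (Y : Over S) : res U Y ⟶ Over.mk U.ι :=
  Over.homMk (pullback.snd Y.hom U.ι) (by simp)

/-- the functoriality -/
noncomputable abbrev resMap {Y' Y : Over S} (r : Y' ⟶ Y) : res U Y' ⟶ res U Y :=
  (Over.pullback U.ι ⋙ Over.map U.ι).map r

theorem resMap_cY {Y' Y : Over S} (r : Y' ⟶ Y) : resMap U r ≫ cY U Y = cY U Y' ≫ r :=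
  (Over.mapPullbackAdj U.ι).counit.naturality r

theorem resMap_uY {Y' Y : Over S} (r : Y' ⟶ Y) : resMap U r ≫ uY U Y = uY U Y' := by
  apply Over.OverMorphism.ext
  simp only [uY, resMap, Functor.comp_map, Over.comp_left, Over.map_map_left,
    Over.pullback_map_left, Over.homMk_left]
  exact pullback.lift_snd _ _ _

/-- the comparison `h_{Y ×_S U} ⟶ F × h_U` of a point `y : h_Y ⟶ F` -/
noncomputable def eps {F : Sp S} {Y : Over S} (y : (yon S).obj Y ⟶ F) :
    (yon S).obj (res U Y) ⟶ F ⨯ (yon S).obj (Over.mk U.ι) :=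
  prod.lift ((yon S).map (cY U Y) ≫ y) ((yon S).map (uY U Y))

theorem eps_fst {F : Sp S} {Y : Over S} (y : (yon S).obj Y ⟶ F) :
    eps U y ≫ prod.fst = (yon S).map (cY U Y) ≫ y := prod.lift_fst _ _

theorem eps_snd {F : Sp S} {Y : Over S} (y : (yon S).obj Y ⟶ F) :
    eps U y ≫ prod.snd = (yon S).map (uY U Y) := prod.lift_snd _ _

theorem map_resMap_eps {F : Sp S} {Y' Y : Over S} (r : Y' ⟶ Y) (y : (yon S).obj Y ⟶ F) :
    (yon S).map (resMap U r) ≫ eps U y = eps U ((yon S).map r ≫ y) := by
  apply Limits.prod.hom_ext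
  · rw [Category.assoc, eps_fst, eps_fst, ← Category.assoc, ← Functor.map_comp, resMap_cY,
      Functor.map_comp, Category.assoc]
  · rw [Category.assoc, eps_snd, eps_snd, ← Functor.map_comp, resMap_uY]

/-- the lift of a pair of points to `Y ×_S U` -/
noncomputable def pairLift {W Y : Over S} (l : W ⟶ Y) (v : W ⟶ Over.mk U.ι) : W ⟶ res U Y :=
  Over.homMk (pullback.lift l.left v.left (by rw [Over.w l]; exact (Over.w v).symm)) (by
    simp only [Functor.comp_obj, Over.map_obj_hom, Over.pullback_obj_hom]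
    rw [pullback.lift_snd_assoc]
    exact Over.w v)

theorem pairLift_cY {W Y : Over S} (l : W ⟶ Y) (v : W ⟶ Over.mk U.ι) :
    pairLift U l v ≫ cY U Y = l := by
  apply Over.OverMorphism.ext
  simp only [pairLift, cY, Over.comp_left, Over.homMk_left, Over.mapPullbackAdj_counit_app]
  exact pullback.lift_fst _ _ _

theorem pairLift_uY {W Y : Over S} (l : W ⟶ Y) (v : W ⟶ Over.mk U.ι) :
    pairLift U l v ≫ uY U Y = v := by
  apply Over.OverMorphism.ext
  simp only [pairLift, uY, Over.comp_left, Over.homMk_left]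
  exact pullback.lift_snd _ _ _

/-- for an epimorphism `p : h_V ⟶ F`, the comparison `h_{V ×_S U} ⟶ F × h_U` is an epimorphism -/
theorem epi_eps {F : Sp S} {V : Over S} (p : (yon S).obj V ⟶ F) [Epi p] : Epi (eps U p) := by
  refine Groth.Agent.H53.epi_of_local_lift _ fun T g => ?_
  obtain ⟨R, hR, hl⟩ := Groth.Agent.H53.exists_local_lift p (g ≫ prod.fst)
  refine ⟨R, hR, fun W w hw => ?_⟩
  obtain ⟨l, hl⟩ := hl w hw
  obtain ⟨l', rfl⟩ := (yon S).map_surjective l
  obtain ⟨v', hv'⟩ := (yon S).map_surjective ((yon S).map w ≫ g ≫ prod.snd)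
  refine ⟨(yon S).map (pairLift U l' v'), ?_⟩
  apply Limits.prod.hom_ext
  · rw [Category.assoc, eps_fst, ← Category.assoc, ← Functor.map_comp, pairLift_cY, hl]
    simp only [Category.assoc]
  · rw [Category.assoc, eps_snd, ← Functor.map_comp, pairLift_uY, hv']
    simp only [Category.assoc]

end Groth.Agent.H64.Neron

namespace Groth.Agent.H64.Neron

open AlgSp

variable {S : Scheme.{u}} (U : S.Opens)

/-- an epimorphism of sheaves is an effective epimorphism -/
theorem effectiveEpi_of_epi {A F : Sp S} (p : A ⟶ F) [Epi p] : EffectiveEpi p := by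
  have : IsRegularEpi p := IsRegularEpiCategory.regularEpiOfEpi p
  exact (isRegularEpi_iff_effectiveEpi p).mp this

/-- The Néron mapping property for smooth schemes implies the one for smooth algebraic spaces. -/
theorem neron_algSpace (N : Over S)
    (hN : ∀ Y : Over S, Smooth Y.hom → Function.Bijective (fun g : Y ⟶ N => cY U Y ≫ g))
    (F : Sp S) (hF : IsAlgSpace F) (sF : F ⟶ (yon S).obj (Over.mk (𝟙 S)))
    (hsm : LocP @Smooth sF) :
    Function.Bijective (fun φ : F ⟶ (yon S).obj N =>
      (prod.fst : F ⨯ (yon S).obj (Over.mk U.ι) ⟶ F) ≫ φ) := by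
  obtain ⟨V, p, hpE, hpS⟩ := hF.atlas
  have hepi : Epi p := Groth.Agent.H53.epi_of_repWith_etale_surjective p hpE hpS
  -- `V` is smooth over `S`
  obtain ⟨k, hk⟩ := (yon S).map_surjective (p ≫ sF)
  have hVsm : Smooth V.hom := by
    have h1 : Smooth k.left := hsm p (𝟙 _) k hpE (repWith_id @Etale _) (by
      rw [hk, Category.comp_id])
    have e : k.left = V.hom := by
      have := Over.w k
      simpa using this
    rwa [e] at h1
  -- the kernel pair
  obtain ⟨R', r2, f1, sq⟩ := hpE.1 p
  obtain ⟨r1, rfl⟩ := (yon S).map_surjective f1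
  have hr2 : Etale r2.left := hpE.2 p _ r2 sq
  have hR'sm : Smooth R'.hom := by
    rw [← Over.w r2]
    infer_instance
  constructor
  · intro φ1 φ2 h
    have h : (prod.fst : F ⨯ (yon S).obj (Over.mk U.ι) ⟶ F) ≫ φ1 = prod.fst ≫ φ2 := h
    obtain ⟨g1, hg1⟩ := (yon S).map_surjective (p ≫ φ1)
    obtain ⟨g2, hg2⟩ := (yon S).map_surjective (p ≫ φ2)
    have e : cY U V ≫ g1 = cY U V ≫ g2 := by
      apply (yon S).map_injective
      rw [Functor.map_comp, Functor.map_comp, hg1, hg2, ← Category.assoc, ← Category.assoc,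
        ← eps_fst, Category.assoc, Category.assoc, h]
    have e' : g1 = g2 := (hN V hVsm).1 e
    rw [← cancel_epi p, ← hg1, ← hg2, e']
  · intro γ
    obtain ⟨m, hm⟩ := (yon S).map_surjective (eps U p ≫ γ)
    obtain ⟨g, hg⟩ := (hN V hVsm).2 m
    have hg : cY U V ≫ g = m := hg
    have hcoeq : r1 ≫ g = r2 ≫ g := by
      apply (hN R' hR'sm).1
      change cY U R' ≫ r1 ≫ g = cY U R' ≫ r2 ≫ g
      rw [← Category.assoc, ← Category.assoc, ← resMap_cY, ← resMap_cY, Category.assoc,
        Category.assoc, hg]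
      apply (yon S).map_injective
      rw [Functor.map_comp, Functor.map_comp, hm, ← Category.assoc, ← Category.assoc,
        map_resMap_eps, map_resMap_eps, sq.w]
    have : EffectiveEpi p := effectiveEpi_of_epi p
    have hcond : ∀ {Z : Sp S} (a b : Z ⟶ (yon S).obj V), a ≫ p = b ≫ p →
        a ≫ (yon S).map g = b ≫ (yon S).map g := by
      intro Z a b hab
      have e1 : sq.lift a b hab ≫ (yon S).map r1 = a := sq.lift_fst _ _ _
      have e2 : sq.lift a b hab ≫ (yon S).map r2 = b := sq.lift_snd _ _ _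
      calc a ≫ (yon S).map g = sq.lift a b hab ≫ (yon S).map (r1 ≫ g) := by
            rw [Functor.map_comp, ← Category.assoc, e1]
        _ = sq.lift a b hab ≫ (yon S).map (r2 ≫ g) := by rw [hcoeq]
        _ = b ≫ (yon S).map g := by rw [Functor.map_comp, ← Category.assoc, e2]
    refine ⟨EffectiveEpi.desc p ((yon S).map g) hcond, ?_⟩
    change prod.fst ≫ EffectiveEpi.desc p ((yon S).map g) hcond = γ
    have := epi_eps U p
    rw [← cancel_epi (eps U p), ← Category.assoc, eps_fst, Category.assoc, EffectiveEpi.fac,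
      ← Functor.map_comp, hg, hm]

end Groth.Agent.H64.Neron
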